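import Groth.Agent.Synt29.PnEuler
import Groth.Agent.H28.KRRZero
import Groth.Agent.SeesawX.Basic

/-!
# Peeling line bundles off a bundle

The exterior powers of an extension by a line bundle, and the successive quotients of a bundle by the summands of
a split subbundle.
-/

set_option autoImplicit false
set_option linter.style.haveILetI false
set_option linter.unusedSectionVars false
set_option backward.isDefEq.respectTransparency false
set_option backward.isDefEq.respectTransparency.types false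
set_option maxHeartbeats 1000000

universe v w u

open CategoryTheory CategoryTheory.Limits AlgebraicGeometry TopologicalSpace Opposite
open Groth.Agent Groth.Agent.H23.PicMul
open scoped Groth.Agent.H23.PicMul

noncomputable section

namespace Groth.Agent.H28.CIHodge

section Abelian

variable {C : Type w} [Category.{v} C] [Abelian C]

/-- Dividing an extension by a direct summand of the subobject. -/
theorem exists_peel {K E Q A B : C} {f : K ⟶ E} {g : E ⟶ Q} {z : f ≫ g = 0} (hS : (ShortComplex.mk f g z).ShortExact)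
    (e : K ≅ A ⊞ B) :
    ∃ (E' : C) (i : A ⟶ E) (π : E ⟶ E') (w : i ≫ π = 0) (f' : B ⟶ E') (g' : E' ⟶ Q) (w' : f' ≫ g' = 0),
      (ShortComplex.mk i π w).ShortExact ∧ (ShortComplex.mk f' g' w').ShortExact := by
  haveI : Mono f := hS.mono_f
  haveI : Epi g := hS.epi_g
  let i : A ⟶ E := biprod.inl ≫ e.inv ≫ f
  let π : E ⟶ cokernel i := cokernel.π i
  haveI : Mono i := inferInstance
  have hi : (ShortComplex.mk i π (cokernel.condition i)).ShortExact :=
    { exact := ShortComplex.exact_of_g_is_cokernel _ (cokernelIsCokernel i) }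
  have hig : i ≫ g = 0 := by simp [i, z]
  let g' : cokernel i ⟶ Q := cokernel.desc i g hig
  have hπg : π ≫ g' = g := cokernel.π_desc _ _ _
  let f' : B ⟶ cokernel i := (biprod.inr ≫ e.inv ≫ f) ≫ π
  have w' : f' ≫ g' = 0 := by simp [f', hπg, z]
  haveI : Mono f' := by
    refine Preadditive.mono_of_cancel_zero _ fun {Z} t ht => ?_
    have h0 : (t ≫ biprod.inr ≫ e.inv ≫ f) ≫ π = 0 := by simpa [f', Category.assoc] using ht
    obtain ⟨Z', ρ, hρ, y, hy⟩ := hi.exact.exact_up_to_refinements (t ≫ biprod.inr ≫ e.inv ≫ f) h0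
    have h1 : (ρ ≫ t) ≫ biprod.inr = y ≫ (biprod.inl : A ⟶ A ⊞ B) := by
      rw [← cancel_mono e.inv, ← cancel_mono f]
      simpa [i, Category.assoc] using hy
    have h2 : ρ ≫ t = 0 := by
      have := congrArg (· ≫ (biprod.snd : A ⊞ B ⟶ B)) h1
      simpa using this
    exact (cancel_epi ρ).1 (h2.trans comp_zero.symm)
  haveI : Epi (π ≫ g') := hπg.symm ▸ inferInstance
  haveI : Epi g' := epi_of_epi π g'
  refine ⟨_, i, π, _, f', g', w', hi, ⟨ShortComplex.exact_of_g_is_cokernel _ (Cofork.IsColimit.mk' _ fun s => ?_)⟩⟩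
  have hs : ((biprod.inr ≫ e.inv ≫ f) ≫ π) ≫ s.π = 0 := by simpa [f'] using s.condition
  have hf0 : f ≫ π ≫ s.π = 0 := by
    rw [← cancel_epi e.inv, comp_zero]
    refine biprod.hom_ext' _ _ ?_ ?_
    · rw [comp_zero, show biprod.inl ≫ e.inv ≫ f ≫ π ≫ s.π = (i ≫ π) ≫ s.π by simp [i],
        cokernel.condition, zero_comp]
    · rw [comp_zero]
      simpa [Category.assoc] using hs
  obtain ⟨l, hl⟩ := CokernelCofork.IsColimit.desc' hS.gIsCokernel (π ≫ s.π) hf0
  refine ⟨l, ?_, fun {m} hm => ?_⟩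
  · show g' ≫ l = s.π
    rw [← cancel_epi π, reassoc_of% hπg]
    exact hl
  · rw [← cancel_epi g]
    refine Eq.trans ?_ hl.symm
    show g ≫ m = π ≫ s.π
    rw [← hπg, Category.assoc]
    exact congrArg (π ≫ ·) hm

/-- The sum of a finite family. -/
def dsum : ∀ {r : ℕ}, (Fin r → C) → C
  | 0, _ => ⊥_ C
  | r + 1, L => L 0 ⊞ dsum fun j : Fin r => L j.succ

/-- The map from the sum. -/
def ddesc : ∀ {r : ℕ} {L : Fin r → C} {M : C}, (∀ j, L j ⟶ M) → (dsum L ⟶ M)
  | 0, _, _, _ => 0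
  | r + 1, _, _, ψ => biprod.desc (ψ 0) (ddesc fun j : Fin r => ψ j.succ)

theorem isZero_dsum_zero (L : Fin 0 → C) : IsZero (dsum L) := by
  show IsZero (⊥_ C)
  exact HasZeroObject.zeroIsoInitial.isZero_iff.1 (isZero_zero C)

theorem ddesc_comp_eq_zero : ∀ {r : ℕ} {L : Fin r → C} {M M' : C} (ψ : ∀ j, L j ⟶ M) (u : M ⟶ M'),
    ddesc ψ ≫ u = 0 ↔ ∀ j, ψ j ≫ u = 0
  | 0, L, _, _, ψ, u => ⟨fun _ j => j.elim0, fun _ => (isZero_dsum_zero L).eq_of_src _ _⟩
  | r + 1, L, _, _, ψ, u => by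
    show biprod.desc (ψ 0) (ddesc fun j : Fin r => ψ j.succ) ≫ u = 0 ↔ _
    have ih := ddesc_comp_eq_zero (fun j : Fin r => ψ j.succ) u
    constructor
    · intro h
      refine Fin.cases ?_ ?_
      · simpa using congrArg (biprod.inl ≫ ·) h
      · exact ih.1 (by simpa using congrArg (biprod.inr ≫ ·) h)
    · intro h
      refine biprod.hom_ext' _ _ ?_ ?_
      · simpa using h 0
      · simpa using ih.2 fun j => h j.succ

end Abelian

variable {X : Scheme.{u}}

theorem rank_dsum : ∀ {r : ℕ} {L : Fin r → X.Modules}, (∀ j, FlatMod.IsFinLocFreeOfRank 1 (L j)) →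
    FlatMod.IsFinLocFreeOfRank r (dsum L) := by
  intro r
  induction r with
  | zero =>
    intro L _
    refine KvbModel.rank_of_frameAt fun x => ⟨⊤, Fin.elim0, trivial, fun W h => ⟨fun v w _ => funext fun i => i.elim0,
      fun y => ⟨Fin.elim0, ?_⟩⟩⟩
    have hy : ∀ z : Γ(dsum L, W), z = 0 := fun z =>
      congrArg (fun φ : dsum L ⟶ dsum L => φ.app W z) ((isZero_dsum_zero L).eq_of_src (𝟙 _) 0)
    exact (hy _).trans (hy y).symm
  | succ r ih =>
    intro L hL
    have h := (KRRZero.rank_biprod (hL 0) (ih fun j => hL j.succ)).1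
    rw [Nat.add_comm 1 r] at h
    exact h

theorem rank_mid {S : ShortComplex X.Modules} (hS : S.ShortExact) {a b : ℕ}
    (h₁ : FlatMod.IsFinLocFreeOfRank a S.X₁) (h₃ : FlatMod.IsFinLocFreeOfRank b S.X₃) :
    FlatMod.IsFinLocFreeOfRank (a + b) S.X₂ :=
  KvbModel.rank_of_frameAt fun x =>
    KvbModel.frameAt_ses hS (KvbModel.frameAt_of_rank h₁ x) (KvbModel.frameAt_of_rank h₃ x)

/-- The exterior powers of an extension with a line bundle as the subobject. -/
theorem exists_ses_sub_one {S : ShortComplex X.Modules} (hS : S.ShortExact)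
    (h₁ : FlatMod.IsFinLocFreeOfRank 1 S.X₁) (h₃ : FlatMod.IsFinLocFree S.X₃) (p : ℕ) :
    ∃ T : ShortComplex X.Modules, T.ShortExact ∧
      PicF.cl T.X₁ = PicF.cl S.X₁ * PicF.cl (ExtBase.L S.X₃ p) ∧
      PicF.cl T.X₂ = PicF.cl (ExtBase.L S.X₂ (p + 1)) ∧
      PicF.cl T.X₃ = PicF.cl (ExtBase.L S.X₃ (p + 1)) := by
  have h₁' : FlatMod.IsFinLocFree S.X₁ := KvbModel.lf_of_rank h₁
  have hone : ∀ {M : X.Modules}, FlatMod.IsFinLocFree M → PicF.cl (ExtBase.L M 1) = PicF.cl M := fun hM =>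
    cl_eq_iff.2 (ExtSh.nonempty_iso_L hM (KvbLam.isExtPow_one _))
  have hzero : ∀ {M : X.Modules}, FlatMod.IsFinLocFree M → PicF.cl (ExtBase.L M 0) = 1 := fun hM =>
    (cl_eq_iff.2 (ExtSh.nonempty_iso_L hM (KvbLam.isExtPow_zero _))).trans one_def.symm
  rcases p with _ | p
  · refine ⟨S, hS, ?_, ?_, ?_⟩
    · rw [hzero h₃, mul_one]
    · rw [hone (ExtFil.isFinLocFree_mid hS h₁' h₃)]
    · rw [hone h₃]
  have hg := ExtFil.exists_good hS h₁' h₃
  have htens : ∀ i j, PicF.cl (DCoh.shP.obj (ExtFil.TP S i j)) =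
      PicF.cl (ExtBase.L S.X₁ i) * PicF.cl (ExtBase.L S.X₃ j) := fun i j => by
    obtain ⟨e⟩ := ExtFil.nonempty_tensor_iso (S := S) i j
    rw [(cl_eq_iff.2 ⟨e⟩ : PicF.cl (DCoh.shP.obj (ExtFil.TP S i j)) = _), Synt29.PnEuler.cl_tens]
  have hT : ∀ i j, 1 < i → IsZero (DCoh.shP.obj (ExtFil.TP S i j)) := fun i j hi => by
    obtain ⟨e⟩ := ExtFil.nonempty_tensor_iso (S := S) i j
    exact ((DCoh.tensorBi.map_isZero (KvbModel.isZero_L h₁ hi)).obj _).of_iso e
  -- the first piece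
  have hC1 : PicF.cl (ExtFil.C (S := S) (p + 2) 1 (p + 1) (by omega)) = PicF.cl (ExtBase.L S.X₃ (p + 2)) := by
    obtain ⟨θ, q, w, hse⟩ := ExtFil.step hg (i := 0) (j := p + 1) (n := p + 2) (by omega) (by omega)
    haveI := ExtFil.epi_a_zero (S := S) (p + 2)
    have hz : IsZero (ExtFil.C (S := S) (p + 2) 0 (p + 2) (by omega)) :=
      isZero_cokernel_of_epi (ExtFil.a S (Nat.zero_add (p + 2)))
    haveI : Mono θ := hse.mono_f
    haveI : Epi θ := hse.exact.epi_f (hz.eq_of_tgt _ _)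
    haveI : IsIso θ := isIso_of_mono_of_epi θ
    rw [(cl_eq_iff.2 ⟨(asIso θ).symm⟩ : PicF.cl (ExtFil.C (S := S) (p + 2) 1 (p + 1) (by omega)) = _), htens,
      hzero h₁', one_mul]
  obtain ⟨θ, q, w, hse⟩ := ExtFil.step hg (i := 1) (j := p) (n := p + 2) (by omega) (by omega)
  refine ⟨_, hse, ?_, ?_, hC1⟩
  · show PicF.cl (DCoh.shP.obj (ExtFil.TP S 1 (p + 1))) = _
    rw [htens, hone h₁']
  · show PicF.cl (ExtFil.C (S := S) (p + 2) 2 p _) = _
    have up : ∀ (i j : ℕ) (h : 2 + i + j = p + 2),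
        PicF.cl (ExtFil.C (S := S) (p + 2) (2 + i) j h) = PicF.cl (ExtFil.C (S := S) (p + 2) 2 p (by omega)) := by
      intro i
      induction i with
      | zero =>
        intro j h
        obtain rfl : j = p := by omega
        rfl
      | succ i ih =>
        intro j h'
        have h : 2 + i + (j + 1) = p + 2 := by omega
        obtain ⟨θ', q', w', hse'⟩ := ExtFil.step hg (i := 2 + i) h (show 2 + i + 1 + j = p + 2 by omega)
        haveI : Epi q' := hse'.epi_g
        haveI : Mono q' := hse'.exact.mono_g ((hT (2 + i) (j + 1) (by omega)).eq_of_src _ _)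
        haveI : IsIso q' := isIso_of_mono_of_epi q'
        exact (cl_eq_iff.2 ⟨asIso q'⟩).trans (ih (j + 1) h)
    obtain ⟨θl, wl, hsel⟩ := ExtFil.last hg (n := p + 2) rfl
    haveI := hsel.epi_g
    haveI : Mono (cokernel.π (ExtFil.a S (show p + 2 + 0 = p + 2 from rfl))) :=
      hsel.exact.mono_g ((hT (p + 2) 0 (by omega)).eq_of_src _ _)
    haveI : IsIso (cokernel.π (ExtFil.a S (show p + 2 + 0 = p + 2 from rfl))) := isIso_of_mono_of_epi _
    rw [(cl_eq_iff.2 ⟨asIso (cokernel.π (ExtFil.a S (show p + 2 + 0 = p + 2 from rfl)))⟩ :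
      PicF.cl (ExtBase.L S.X₂ (p + 2)) = _)]
    have key : ∀ (i' : ℕ) (h : i' + 0 = p + 2), 2 ≤ i' →
        PicF.cl (ExtFil.C (S := S) (p + 2) i' 0 h) = PicF.cl (ExtFil.C (S := S) (p + 2) 2 p (by omega)) :=
      fun i' h hi => by
        obtain ⟨d, rfl⟩ := Nat.exists_eq_add_of_le hi
        exact up d 0 h
    exact (key (p + 2) rfl (by omega)).symm

/-- A bundle with successive line subbundles of the given classes and last quotient `Q`. -/
def Chain (m : ℕ) : ∀ (r : ℕ), (Fin r → PicF.Cl X) → X.Modules → X.Modules → Prop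
  | 0, _, E, Q => Nonempty (E ≅ Q)
  | r + 1, c, E, Q => ∃ (E' : X.Modules) (A : X.Modules) (i : A ⟶ E) (π : E ⟶ E') (w : i ≫ π = 0),
      (ShortComplex.mk i π w).ShortExact ∧ PicF.cl A = c 0 ∧ FlatMod.IsFinLocFreeOfRank 1 A ∧
        FlatMod.IsFinLocFreeOfRank (r + m) E' ∧ Chain m r (fun j => c j.succ) E' Q

theorem chain_of_ses : ∀ {r m : ℕ} {L : Fin r → X.Modules} {K E Q : X.Modules} {f : K ⟶ E} {g : E ⟶ Q}
    {z : f ≫ g = 0}, (ShortComplex.mk f g z).ShortExact → Nonempty (K ≅ dsum L) →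
    (∀ j, FlatMod.IsFinLocFreeOfRank 1 (L j)) → FlatMod.IsFinLocFreeOfRank m Q →
    Chain m r (fun j => PicF.cl (L j)) E Q := by
  intro r
  induction r with
  | zero =>
    intro m L K E Q f g z hS he _ _
    haveI : Epi g := hS.epi_g
    haveI : Mono g := hS.exact.mono_g (((isZero_dsum_zero L).of_iso he.some).eq_of_src _ _)
    exact ⟨@asIso _ _ _ _ g (isIso_of_mono_of_epi g)⟩
  | succ r ih =>
    intro m L K E Q f g z hS he hL hQ
    obtain ⟨e⟩ := he
    obtain ⟨E', i, π, w, f', g', w', hi, hS'⟩ := exists_peel (A := L 0) (B := dsum fun j : Fin r => L j.succ) hS e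
    exact ⟨E', L 0, i, π, w, hi, rfl, hL 0,
      rank_mid hS' (rank_dsum fun j => hL j.succ) hQ,
      ih hS' ⟨Iso.refl _⟩ (fun j => hL j.succ) hQ⟩

end Groth.Agent.H28.CIHodge
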