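import Groth.Agent.H28.CIHodge.Ses
import Groth.Agent.H28.CIHodge.Chain
import Groth.Agent.KFlatLib.Scheme.TensorAssoc
import Groth.Agent.Lib.Euler

/-!
# The recursion for the Hodge numbers

Vanishing and one-dimensionality of the twisted exterior powers, along the Euler sequence and along a chain of
line subbundles of negative degrees.
-/

set_option autoImplicit false
set_option linter.style.haveILetI false
set_option linter.unusedSectionVars false
set_option backward.isDefEq.respectTransparency false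
set_option backward.isDefEq.respectTransparency.types false
set_option maxHeartbeats 1000000

universe u

open CategoryTheory CategoryTheory.Limits AlgebraicGeometry TopologicalSpace Opposite
open Groth.Agent Groth.Agent.H23.PicMul
open scoped Groth.Agent.H23.PicMul

noncomputable section

namespace Groth.Agent.H28.CIHodge

variable (k : Type u) [Field k] {X : Scheme.{u}} [X.Over (Spec (CommRingCat.of k))]

/-- The classes are acyclic in the degree. -/
def Van (c : PicF.Cl X) (q : ℕ) : Prop := ∀ M : X.Modules, PicF.cl M = c → Subsingleton (Coh.HH X M q)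

/-- The group of the class is a line. -/
def OneCl (c : PicF.Cl X) (q : ℕ) : Prop := ∀ M : X.Modules, PicF.cl M = c → One k M q

/-- A short exact sequence with the three classes. -/
def Rel (a b c : PicF.Cl X) : Prop :=
  ∃ T : ShortComplex X.Modules, T.ShortExact ∧ PicF.cl T.X₁ = a ∧ PicF.cl T.X₂ = b ∧ PicF.cl T.X₃ = c

theorem van_of {M : X.Modules} {c : PicF.Cl X} (h : PicF.cl M = c) {q : ℕ}
    (hs : Subsingleton (Coh.HH X M q)) : Van c q := fun M' h' => by
  obtain ⟨e⟩ := cl_eq_iff.1 (h'.trans h.symm)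
  exact QCoh.subsingleton_HH_of_iso e.symm q hs

theorem oneCl_of {M : X.Modules} {c : PicF.Cl X} (h : PicF.cl M = c) {q : ℕ} (hs : One k M q) : OneCl k c q :=
  fun M' h' => by
    obtain ⟨e⟩ := cl_eq_iff.1 (h'.trans h.symm)
    exact (eqv_of_iso k e q).one k hs

variable {a b c : PicF.Cl X}

include k in
theorem Rel.van_left (h : Rel a b c) {q : ℕ} (h₂ : Van b q) (hc : ∀ r, r + 1 = q → Van c r) : Van a q := by
  obtain ⟨T, hT, h1, h2, h3⟩ := h
  refine van_of h1 ?_
  rcases q with _ | q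
  · exact Synt29.PnHodge.subsingleton_left_zero k hT (h₂ _ h2)
  · exact Synt29.PnHodge.subsingleton_left k hT q (h₂ _ h2) (hc q rfl _ h3)

include k in
theorem Rel.van_right (h : Rel a b c) {q : ℕ} (h₂ : Van b q) (h₁ : Van a (q + 1)) : Van c q := by
  obtain ⟨T, hT, h1, h2, h3⟩ := h
  exact van_of h3 (Synt29.PnHodge.subsingleton_right k hT q (h₂ _ h2) (h₁ _ h1))

theorem Rel.one_left (h : Rel a b c) {q : ℕ} (h₂ : Van b q) (h₂' : Van b (q + 1)) (hc : OneCl k c q) :
    OneCl k a (q + 1) := by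
  obtain ⟨T, hT, h1, h2, h3⟩ := h
  exact oneCl_of k h1 ((eqv_delta k hT q (h₂ _ h2) (h₂' _ h2)).symm.one k (hc _ h3))

theorem Rel.one_right (h : Rel a b c) {q : ℕ} (h₂ : Van b q) (h₂' : Van b (q + 1)) (ha : OneCl k a (q + 1)) :
    OneCl k c q := by
  obtain ⟨T, hT, h1, h2, h3⟩ := h
  exact oneCl_of k h3 ((eqv_delta k hT q (h₂ _ h2) (h₂' _ h2)).one k (ha _ h1))

include k in
theorem Rel.van_quot (h : Rel a b c) {q : ℕ} (h₁ : Van a q) (h₁' : Van a (q + 1)) (hb : Van b q) : Van c q :=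
  h.van_right k hb h₁'

theorem Rel.one_quot (h : Rel a b c) {q : ℕ} (h₁ : Van a q) (h₁' : Van a (q + 1)) (hb : OneCl k b q) :
    OneCl k c q := by
  obtain ⟨T, hT, h1, h2, h3⟩ := h
  exact oneCl_of k h3 ((eqv_g k hT q (h₁ _ h1) (h₁' _ h1)).symm.one k (hb _ h2))

include k in
theorem Rel.van_sub (h : Rel a b c) {q : ℕ} (hc : Van c q) (hb : Van b (q + 1)) : Van a (q + 1) :=
  h.van_left k hb fun r hr => by cases hr; exact hc

theorem Rel.one_sub (h : Rel a b c) {q : ℕ} (hc : Van c q) (hc' : Van c (q + 1)) (hb : OneCl k b (q + 1)) :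
    OneCl k a (q + 1) := by
  obtain ⟨T, hT, h1, h2, h3⟩ := h
  exact oneCl_of k h1 ((eqv_f_succ k hT q (hc _ h3) (hc' _ h3)).one k (hb _ h2))

variable (tw : ℤ → PicF.Cl X)

/-- The twisted exterior power. -/
def cls (E : X.Modules) (j : ℕ) (t : ℤ) : PicF.Cl X := tw t * PicF.cl (ExtBase.L E j)

/-- What is known of the twists. -/
structure TwistData (n : ℕ) (c₀ : ℤ) : Prop where
  add : ∀ s t, tw s * tw t = tw (s + t)
  inv : ∀ t, ∃ V : X.Modules, PicF.IsInvertible V ∧ PicF.cl V = tw t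
  mid : ∀ (t : ℤ) (q : ℕ), 0 < q → q < n → Van (tw t) q
  neg : ∀ t : ℤ, t < 0 → Van (tw t) 0
  zero : OneCl k (tw 0) 0
  top : ∀ t : ℤ, c₀ < t → Van (tw t) n
  top_one : OneCl k (tw c₀) n
  big : ∀ (E : X.Modules), FlatMod.IsFinLocFree E → ∀ (j : ℕ) (t : ℤ) (q : ℕ), n < q → Van (cls tw E j t) q
  big' : ∀ (t : ℤ) (q : ℕ), n < q → Van (tw t) q

/-- The lower half. -/
def Lower (n : ℕ) (E : X.Modules) : Prop :=
  ∀ (j i : ℕ) (t : ℤ), t ≤ 0 → i + j < n →
    (¬ (t = 0 ∧ i = j) → Van (cls tw E j t) i) ∧ (t = 0 → i = j → OneCl k (cls tw E j t) i)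

/-- The upper half, for a bundle of rank `n + r` with `r` line bundles still to divide out, of total degree `T`. -/
def Upper (n r : ℕ) (T : ℤ) (E : X.Modules) : Prop :=
  ∀ (j i : ℕ) (t : ℤ), n + r < i + j → T ≤ t →
    (¬ (t = T ∧ i + r = j) → Van (cls tw E j t) i) ∧
      (t = T → i + r = j → j ≤ n + r → OneCl k (cls tw E j t) i)

/-- The Euler sequences. -/
def EulerData (E : X.Modules) : Prop :=
  ∀ (j : ℕ) (t : ℤ), ∃ T : ShortComplex X.Modules, T.ShortExact ∧
    PicF.cl T.X₁ = cls tw E (j + 1) t ∧ PicF.cl T.X₃ = cls tw E j t ∧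
    ∃ (V : X.Modules) (N : ℕ) (a : Fin N → (T.X₂ ⟶ V)) (b : Fin N → (V ⟶ T.X₂)),
      PicF.cl V = tw (t - (j + 1)) ∧ ∑ l, a l ≫ b l = 𝟙 T.X₂

variable {tw} {n : ℕ} {c₀ : ℤ}

include k in
theorem EulerData.rel {E : X.Modules} (h : EulerData tw E) (j : ℕ) (t : ℤ) :
    ∃ b, Rel (cls tw E (j + 1) t) b (cls tw E j t) ∧ ∀ q, Van (tw (t - (j + 1))) q → Van b q := by
  obtain ⟨T, hT, h1, h3, V, N, a, b, hV, hab⟩ := h j t
  exact ⟨_, ⟨T, hT, h1, rfl, h3⟩, fun q hq => van_of rfl (Synt29.PnHodge.subsingleton_of_decomp a b hab q (hq V hV))⟩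

theorem cls_zero (D : TwistData k tw n c₀) {E : X.Modules} (hE : FlatMod.IsFinLocFree E) (t : ℤ) :
    cls tw E 0 t = tw t := by
  rw [cls, (cl_eq_iff.2 (ExtSh.nonempty_iso_L hE (KvbLam.isExtPow_zero _)) : PicF.cl (ExtBase.L E 0) = _),
    ← one_def, mul_one]

theorem van_cls_top (D : TwistData k tw n c₀) {E : X.Modules} {r : ℕ} (hE : FlatMod.IsFinLocFreeOfRank r E)
    {j : ℕ} (hj : r < j) (t : ℤ) (q : ℕ) : Van (cls tw E j t) q := by
  obtain ⟨V, -, hV⟩ := D.inv t
  refine van_of (M := CohB1.tensorMod V (ExtBase.L E j)) ?_ (Euler.subsingleton_HH_of_isZero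
    (Synt29.PnEuler.isZero_tensorMod _ (KvbModel.isZero_L hE hj)) q)
  rw [cl_tensor, hV, cls]

theorem lower_euler (D : TwistData k tw n c₀) {E : X.Modules} (hE : FlatMod.IsFinLocFree E)
    (h : EulerData tw E) : Lower k tw n E := by
  intro j
  induction j with
  | zero =>
    intro i t ht hij
    rw [cls_zero k D hE]
    refine ⟨fun hne => ?_, fun h0 hi => ?_⟩
    · rcases Nat.eq_zero_or_pos i with rfl | hi
      · exact D.neg t (by omega)
      · exact D.mid t i hi (by omega)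
    · subst h0; subst hi
      exact D.zero
  | succ j ih =>
    intro i t ht hij
    obtain ⟨b, hb, hvan⟩ := h.rel k j t
    have hmid : ∀ q, q < n → Van b q := fun q hq => hvan q (by
      rcases Nat.eq_zero_or_pos q with rfl | hq0
      · exact D.neg _ (by omega)
      · exact D.mid _ q hq0 hq)
    refine ⟨fun hne => hb.van_left k (hmid i (by omega))
      fun r hr => (ih r t ht (by omega)).1 (fun hh => hne ⟨hh.1, by omega⟩), fun h0 hi => ?_⟩
    subst hi
    exact hb.one_left k (hmid j (by omega)) (hmid (j + 1) (by omega)) ((ih j t ht (by omega)).2 h0 rfl)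

theorem upper_euler (D : TwistData k tw n c₀) {E : X.Modules} {N d : ℕ} {A : ℤ}
    (hE : FlatMod.IsFinLocFreeOfRank N E) (hN : n + d = N) (hA : c₀ = A - (N + 1)) (hn : 0 < n)
    (htop : ∀ t, cls tw E N t = tw (t - (N + 1))) (h : EulerData tw E) : Upper k tw n d A E := by
  suffices key : ∀ (e j : ℕ), N ≤ j + e → ∀ (i : ℕ) (t : ℤ), n + d < i + j → A ≤ t →
      (¬ (t = A ∧ i + d = j) → Van (cls tw E j t) i) ∧
        (t = A → i + d = j → j ≤ n + d → OneCl k (cls tw E j t) i) from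
    fun j i t hij ht => key N j (by omega) i t hij ht
  intro e
  induction e with
  | zero =>
    intro j hj i t hij ht
    rcases Nat.lt_or_ge N j with hlt | hge
    · exact ⟨fun _ => van_cls_top k D hE hlt t i, fun _ _ hle => absurd hle (by omega)⟩
    · obtain rfl : j = N := by omega
      rw [htop]
      refine ⟨fun hne => ?_, fun h0 hi _ => ?_⟩
      · rcases lt_trichotomy i n with hlt | heq | hgt
        · exact D.mid _ i (by omega) hlt
        · subst heq
          exact D.top _ (by rw [hA]; omega)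
        · exact D.big' _ i hgt
      · obtain rfl : i = n := by omega
        rw [h0, ← hA]
        exact D.top_one
  | succ e ih =>
    intro j hj i t hij ht
    rcases Nat.lt_or_ge N (j + (e + 1)) with hlt | hge
    · exact ih j (by omega) i t hij ht
    rcases Nat.lt_or_ge j N with hjN | hjN
    swap
    · exact ih j (by omega) i t hij ht
    obtain ⟨b, hb, hvan⟩ := h.rel k j t
    have hmid : ∀ q, 0 < q → Van b q := fun q hq => hvan q (by
      rcases lt_trichotomy q n with hlt | heq | hgt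
      · exact D.mid _ q hq hlt
      · subst heq
        exact D.top _ (by rw [hA]; omega)
      · exact D.big' _ q hgt)
    have h' := ih (j + 1) (by omega) (i + 1) t (by omega) ht
    refine ⟨fun hne => hb.van_right k (hmid i (by omega)) (h'.1 fun hh => hne ⟨hh.1, by omega⟩), fun h0 hi hle => ?_⟩
    exact hb.one_right k (hmid i (by omega)) (hmid (i + 1) (by omega)) (h'.2 h0 (by omega) (by omega))

theorem rel_step (D : TwistData k tw n c₀) {A E E' : X.Modules} {i : A ⟶ E} {π : E ⟶ E'} {w : i ≫ π = 0}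
    (hS : (ShortComplex.mk i π w).ShortExact) (hA : FlatMod.IsFinLocFreeOfRank 1 A)
    (hE' : FlatMod.IsFinLocFree E') {a : ℕ} (hcl : PicF.cl A = tw (-(a : ℤ))) (j : ℕ) (t : ℤ) :
    Rel (cls tw E' j (t - a)) (cls tw E (j + 1) t) (cls tw E' (j + 1) t) := by
  obtain ⟨T, hT, h1, h2, h3⟩ := exists_ses_sub_one hS hA hE' j
  have hX₃ : FlatMod.IsFinLocFree T.X₃ := by
    obtain ⟨e⟩ := cl_eq_iff.1 h3
    exact H23.PullPush.isFinLocFree_of_iso e.symm (ExtSh.isFinLocFree_L _ hE')
  obtain ⟨V, -, hV⟩ := D.inv t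
  refine ⟨_, KFlatLib.shortExact_tensor_of_isFlat V hT (KFlatLib.isFlat_of_isFinLocFree hX₃), ?_, ?_, ?_⟩
  · show PicF.cl (((DCoh.tensorBi (X := X)).obj V).obj T.X₁) = _
    rw [Synt29.PnEuler.cl_tens, h1, hV, hcl, ← mul_assoc, D.add, ← sub_eq_add_neg, cls]
  · show PicF.cl (((DCoh.tensorBi (X := X)).obj V).obj T.X₂) = _
    rw [Synt29.PnEuler.cl_tens, h2, hV, cls]
  · show PicF.cl (((DCoh.tensorBi (X := X)).obj V).obj T.X₃) = _
    rw [Synt29.PnEuler.cl_tens, h3, hV, cls]

theorem lower_step (D : TwistData k tw n c₀) {E E' : X.Modules} (hE : FlatMod.IsFinLocFree E)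
    (hE' : FlatMod.IsFinLocFree E') {a : ℕ} (ha : 1 ≤ a)
    (hrel : ∀ j t, Rel (cls tw E' j (t - a)) (cls tw E (j + 1) t) (cls tw E' (j + 1) t))
    (hL : Lower k tw n E) : Lower k tw n E' := by
  intro j
  induction j with
  | zero =>
    intro i t ht hij
    have h := hL 0 i t ht hij
    rw [cls_zero k D hE] at h
    rw [cls_zero k D hE']
    exact h
  | succ j ih =>
    intro i t ht hij
    have hv : ∀ q, q + j < n → Van (cls tw E' j (t - a)) q := fun q hq =>
      (ih q (t - a) (by omega) hq).1 fun hh => by omega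
    have h := hL (j + 1) i t ht hij
    exact ⟨fun hne => (hrel j t).van_quot k (hv i (by omega)) (hv (i + 1) (by omega)) (h.1 hne),
      fun h0 hi => (hrel j t).one_quot k (hv i (by omega)) (hv (i + 1) (by omega)) (h.2 h0 hi)⟩

theorem upper_step (D : TwistData k tw n c₀) {E E' : X.Modules} {r : ℕ}
    (hE' : FlatMod.IsFinLocFreeOfRank (n + r) E') {a : ℕ} (ha : 1 ≤ a) {T : ℤ}
    (hrel : ∀ j t, Rel (cls tw E' j (t - a)) (cls tw E (j + 1) t) (cls tw E' (j + 1) t))
    (hU : Upper k tw n (r + 1) (T + a) E) : Upper k tw n r T E' := by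
  suffices key : ∀ (e j : ℕ), n + r + 1 ≤ j + e → ∀ (i : ℕ) (t : ℤ), n + r < i + j → T ≤ t →
      (¬ (t = T ∧ i + r = j) → Van (cls tw E' j t) i) ∧
        (t = T → i + r = j → j ≤ n + r → OneCl k (cls tw E' j t) i) from
    fun j i t hij ht => key (n + r + 1) j (by omega) i t hij ht
  intro e
  induction e with
  | zero =>
    intro j hj i t hij ht
    exact ⟨fun _ => van_cls_top k D hE' (by omega) t i, fun _ _ hle => absurd hle (by omega)⟩
  | succ e ih =>
    intro j hj i t hij ht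
    rcases Nat.lt_or_ge (n + r) j with hlt | hge
    · exact ⟨fun _ => van_cls_top k D hE' hlt t i, fun _ _ hle => absurd hle (by omega)⟩
    obtain ⟨q, rfl⟩ : ∃ q, i = q + 1 := ⟨i - 1, by omega⟩
    have hR := hrel j (t + a)
    rw [add_sub_cancel_right] at hR
    have hv : ∀ p, q ≤ p → Van (cls tw E' (j + 1) (t + a)) p := fun p hp =>
      (ih (j + 1) (by omega) p (t + a) (by omega) (by omega)).1 fun hh => by omega
    have h := hU (j + 1) (q + 1) (t + a) (by omega) (by omega)
    exact ⟨fun hne => hR.van_sub k (hv q le_rfl) (h.1 fun hh => hne ⟨by omega, by omega⟩),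
      fun h0 hi hle => hR.one_sub k (hv q le_rfl) (hv (q + 1) (by omega)) (h.2 (by omega) (by omega) (by omega))⟩

theorem chain_hodge (D : TwistData k tw n c₀) : ∀ {r : ℕ} {a : Fin r → ℕ} {c : Fin r → PicF.Cl X}
    {E Q : X.Modules}, Chain n r c E Q → (∀ j, c j = tw (-(a j : ℤ))) → (∀ j, 1 ≤ a j) →
    FlatMod.IsFinLocFree E → FlatMod.IsFinLocFreeOfRank n Q →
    Lower k tw n E → Upper k tw n r (∑ j, (a j : ℤ)) E → Lower k tw n Q ∧ Upper k tw n 0 0 Q := by
  intro r
  induction r with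
  | zero =>
    intro a c E Q hC _ _ hE hQ hL hU
    obtain ⟨e⟩ := hC
    have hcl : ∀ j t, cls tw E j t = cls tw Q j t := fun j t => by
      rw [cls, cls, cl_eq_iff.2 (ExtSh.nonempty_iso_L (KvbModel.lf_of_rank hQ)
        (Synt29.ExtPowPull.isExtPow_of_iso e (ExtSh.isExtPow_L j hE))) |>.symm]
    rw [Fintype.sum_empty] at hU
    refine ⟨fun j i t ht hij => ?_, fun j i t hij ht => ?_⟩
    · rw [← hcl]; exact hL j i t ht hij
    · rw [← hcl]; exact hU j i t hij ht
  | succ r ih =>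
    intro a c E Q hC hc ha hE hQ hL hU
    obtain ⟨E', A, i, π, w, hS, hA, hA1, hm, hC'⟩ := hC
    have hE' : FlatMod.IsFinLocFree E' := KvbModel.lf_of_rank hm
    have hrel := rel_step k D hS hA1 hE' (hA.trans (hc 0))
    have hsum : ∑ j, (a j : ℤ) = (∑ j : Fin r, (a j.succ : ℤ)) + (a 0 : ℤ) := by rw [Fin.sum_univ_succ, add_comm]
    rw [hsum] at hU
    rw [Nat.add_comm r n] at hm
    exact ih hC' (fun j => hc j.succ) (fun j => ha j.succ) hE' hQ (lower_step k D hE hE' (ha 0) hrel hL)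
      (upper_step k D hm (ha 0) hrel hU)

end Groth.Agent.H28.CIHodge
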