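import Groth.Agent.H28.CIHodge.Twists
import Groth.Agent.H28.CIHodge.Rec
import Groth.Agent.H28.Hirz.Geom
import Groth.Agent.Synt29.CITwo
import Groth.Agent.Synt29.StalkMat
import Groth.Agent.GrLib8.CICoh.Equidim
import Groth.Agent.H28.LineTwist

/-!
# The Hodge cohomology of a smooth complete intersection

The twists, the Euler sequence and the conormal sequence on the complete intersection, fed into the recursion.
-/

set_option autoImplicit false
set_option linter.style.haveILetI false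
set_option linter.unusedSectionVars false
set_option linter.overlappingInstances false
set_option backward.isDefEq.respectTransparency false
set_option backward.isDefEq.respectTransparency.types false
set_option maxHeartbeats 1000000

universe u

open CategoryTheory CategoryTheory.Limits AlgebraicGeometry TopologicalSpace Opposite MvPolynomial
open Groth.Agent Groth.Agent.H23.PicMul Groth.Agent.GrLib8 Groth.Agent.GrLib8.CICoh
open Groth.Agent.VarDim Groth.Agent.VarDim.ProjN
open scoped Groth.Agent.H23.PicMul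

noncomputable section

namespace Groth.Agent.H28.CIHodge

variable {k : Type u} [Field k]

theorem le_height_of_dim_le {N r : ℕ} {a : Fin r → ℕ} (G : ∀ j : Fin r, LefPen.Form N k (a j)) (hr : r ≤ N)
    (hdim : topologicalKrullDim ↥(LefPen.ciIdeal G).subscheme ≤ ((N - r : ℕ) : WithBot ℕ∞))
    (P : PrimeSpectrum (MvPolynomial (Fin (N + 1)) k)) (hP : Ideal.ofList (forms G) ≤ P.asIdeal) :
    (r : ℕ∞) ≤ P.asIdeal.height := by
  obtain ⟨Q, hQ, hQP⟩ := Ideal.exists_minimalPrimes_le hP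
  refine le_trans ?_ (Ideal.height_mono hQP)
  by_cases hv : Q = vertex k N
  · rw [hv, height_vertex]
    exact_mod_cast (by omega : r ≤ N + 1)
  obtain ⟨x, hx⟩ := exists_point_minimal (isHomogeneous_forms G) hQ hv
  have hmem : x ∈ ((LefPen.ciIdeal G).support : Set (CohB1.ProjSpace N k)) :=
    mem_of_support G fun j => hx ▸ hQ.1.2 (Ideal.subset_span (List.mem_ofFn.2 ⟨j, rfl⟩))
  have h1 := le_topologicalKrullDim (Z := ((LefPen.ciIdeal G).support : Set (CohB1.ProjSpace N k)))
    (LefPen.ciIdeal G).support.isClosed hmem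
  have h2 : topologicalKrullDim ((LefPen.ciIdeal G).support : Set (CohB1.ProjSpace N k)) ≤
      ((N - r : ℕ) : WithBot ℕ∞) := by
    refine le_trans (le_of_eq ?_) hdim
    rw [← (LefPen.ciIdeal G).range_subschemeι]
    exact ((LefPen.ciIdeal G).subschemeι.isClosedEmbedding.isEmbedding.toHomeomorph).isHomeomorph.topologicalKrullDim_eq.symm
  have h3 : pdim x ≤ N - r := by exact_mod_cast h1.trans h2
  have h4 := height_add_coheight_pp (pp x)
  rw [coheight_pp_eq, ← PrimeSpectrum.height_eq_orderHeight, hx] at h4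
  generalize Q.height = e at h4 ⊢
  cases e with
  | top => exact le_top
  | coe e =>
    have : e + (pdim x + 1) = N + 1 := by exact_mod_cast h4
    exact_mod_cast (by omega : r ≤ e)

variable {n d : ℕ} {a : Fin d → ℕ} (G : ∀ j : Fin d, LefPen.Form (n + d) k (a j))

variable [SmoothOfRelativeDimension n ((LefPen.ciIdeal G).subschemeι ≫ CohB1.ProjSpace.toSpec (n + d) k)]
  [(LefPen.ciIdeal G).subscheme.Over (Spec (CommRingCat.of k))]
  (hover : (LefPen.ciIdeal G).subscheme ↘ Spec (CommRingCat.of k) =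
    (LefPen.ciIdeal G).subschemeι ≫ CohB1.ProjSpace.toSpec (n + d) k)

local instance : (CohB1.ProjSpace (n + d) k).Over (Spec (CommRingCat.of k)) :=
  ⟨CohB1.ProjSpace.toSpec (n + d) k⟩

/-- The twists. -/
abbrev twY (t : ℤ) : PicF.Cl (LefPen.ciIdeal G).subscheme := PicF.pullCl (LefPen.ciIdeal G).subschemeι (Synt29.PnEuler.tw (n + d) k t)

/-- The restriction of the differentials of projective space. -/
abbrev OmP : (LefPen.ciIdeal G).subscheme.Modules :=
  (Scheme.Modules.pullback (LefPen.ciIdeal G).subschemeι).obj (Omega.sheaf (CohB1.ProjSpace.toSpec (n + d) k))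

/-- The differentials. -/
abbrev OmY : (LefPen.ciIdeal G).subscheme.Modules :=
  Omega.sheaf ((LefPen.ciIdeal G).subschemeι ≫ CohB1.ProjSpace.toSpec (n + d) k)

theorem dim_le : topologicalKrullDim ↥(LefPen.ciIdeal G).subscheme ≤ ((n : ℕ∞) : WithBot ℕ∞) := by
  haveI : IsProper (CohB1.ProjSpace.toSpec (n + d) k) := PnCoh.Chow.isProper_toSpec.{u} (n + d) k
  let f := (LefPen.ciIdeal G).subschemeι ≫ CohB1.ProjSpace.toSpec (n + d) k
  haveI : Smooth f := SmoothOfRelativeDimension.smooth n f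
  haveI : LocallyOfFiniteType f := inferInstance
  rw [VarDim.topologicalKrullDim_eq_iSup_deg f]
  refine iSup_le fun x => ?_
  have h1 := FibDim.rd_le_fibreDimAt f (specializes_refl x) rfl
  rw [S2768.result n f x] at h1
  have h3 : (VarDim.deg f x : Cardinal) = FibDim.rd f x := by
    rw [FibDim.rd_eq_rdeg, ← VarDim.tdeg_eq_rdeg f x, ← VarDim.deg_eq_tdeg f x]
  rw [show VarDim.deg f x = FibDim.rd f x by exact_mod_cast h3]
  exact h1

theorem regular (ha : ∀ j, 1 ≤ a j) :
    RingTheory.Sequence.IsWeaklyRegular (MvPolynomial (Fin (n + d + 1)) k) (forms G) :=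
  isWeaklyRegular_of_height G ha (le_height_of_dim_le G (Nat.le_add_left d n)
    (by rw [Nat.add_sub_cancel]; exact dim_le G))

include hover in
theorem isProper_Y : IsProper ((LefPen.ciIdeal G).subscheme ↘ Spec (CommRingCat.of k)) := by
  haveI : IsProper (CohB1.ProjSpace.toSpec (n + d) k) := PnCoh.Chow.isProper_toSpec.{u} (n + d) k
  rw [hover]
  infer_instance

include hover in
theorem subsingleton_HH {M : (LefPen.ciIdeal G).subscheme.Modules} (hM : Coh.IsQCoh M) (i : ℕ) (hi : n < i) :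
    Subsingleton (Coh.HH (LefPen.ciIdeal G).subscheme M i) := by
  haveI := isProper_Y G hover
  haveI : (LefPen.ciIdeal G).subscheme.IsSeparated := AmpleVan.isSeparated_of_proper (A := k)
  haveI : AlgebraicGeometry.IsNoetherian (LefPen.ciIdeal G).subscheme := CurveCohLib.isNoetherian_of_proper (k := k)
  refine Snapper.subsingleton_HH_of_dim_lt (n + 1) ⊤ ?_ _ hM (fun _ _ => trivial) i hi
  refine lt_of_le_of_lt (Topology.IsInducing.subtypeVal).topologicalKrullDim_le ?_
  exact lt_of_le_of_lt (dim_le G) (by exact_mod_cast Nat.lt_succ_self n)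

include hover in
theorem eqv_twY (t : ℤ) {M : (LefPen.ciIdeal G).subscheme.Modules} (hM : PicF.cl M = twY G t) (q : ℕ) :
    ∃ _ : Coh.HH (LefPen.ciIdeal G).subscheme M q ≃ₗ[k] Coh.HH (CohB1.ProjSpace (n + d) k) (qT G t) q, True := by
  have hM' : PicF.cl M = PicF.cl ((Scheme.Modules.pullback (LefPen.ciIdeal G).subschemeι).obj (Twist.twistProjSpace (n + d) k t)) := hM
  obtain ⟨e⟩ := cl_eq_iff.1 hM'
  obtain ⟨f⟩ := PnCoh.exists_linearEquiv_push k (LefPen.ciIdeal G).subschemeι (show (LefPen.ciIdeal G).subschemeι ≫ CohB1.ProjSpace.toSpec (n + d) k = _ from hover.symm)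
    (QCoh.isQCoh_pullback _ (PnCoh.isQCoh_twist_mvPolynomial (Fin (n + d + 1)) k t) :
      Coh.IsQCoh ((Scheme.Modules.pullback (LefPen.ciIdeal G).subschemeι).obj (Twist.twistProjSpace (n + d) k t))) q
  obtain ⟨g, -⟩ := exists_iso G t
  exact ⟨((Synt29.PnHodge.equivLin k e q).trans f).trans (Synt29.PnHodge.equivLin k g q).symm, trivial⟩

theorem rank_twY {M : (LefPen.ciIdeal G).subscheme.Modules} {t : ℤ} (hM : PicF.cl M = twY G t) :
    FlatMod.IsFinLocFreeOfRank 1 M := by
  have hM' : PicF.cl M = PicF.cl ((Scheme.Modules.pullback (LefPen.ciIdeal G).subschemeι).obj (Twist.twistProjSpace (n + d) k t)) := hM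
  obtain ⟨e⟩ := cl_eq_iff.1 hM'
  exact Hirz.rank_of_iso e.symm
    (InvEnd.isFinLocFreeOfRank_one (PicClLib.isInvertible_pullback _ (KPn.inv_tw k (n + d) t)))

include hover in
theorem twistData (ha : ∀ j, 1 ≤ a j) (hn : 0 < n) :
    TwistData k (twY G) n ((∑ j, (a j : ℤ)) - ((n + d : ℕ) + 1)) := by
  have hT := twistCoh (N := n + d) d a G ha (regular G ha) (by omega)
  have hv : ∀ t q, Subsingleton (Coh.HH (CohB1.ProjSpace (n + d) k) (qT G t) q) → Van (twY G t) q :=
    fun t q h M hM => by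
      obtain ⟨e, -⟩ := eqv_twY G hover t hM q
      exact e.toEquiv.subsingleton
  have ho : ∀ t q, One k (qT G t) q → OneCl k (twY G t) q := fun t q h M hM => by
    obtain ⟨e, -⟩ := eqv_twY G hover t hM q
    obtain ⟨e'⟩ := h
    exact ⟨e.trans e'⟩
  refine
    { add := fun s t => by rw [twY, twY, ← pullCl_mul, Synt29.PnEuler.tw_add]
      inv := fun t => ⟨_, PicClLib.isInvertible_pullback _ (KPn.inv_tw k (n + d) t), rfl⟩
      mid := fun t q hq hqn => hv t q (hT.mid t q hq (by omega))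
      neg := fun t ht => hv t 0 (hT.neg t ht)
      zero := ho 0 0 hT.zero
      top := fun t ht => hv t n ?_
      top_one := ho _ n ?_
      big := fun E hE j t q hq M hM => ?_
      big' := fun t q hq M hM => ?_ }
  · have h := hT.top t ht
    rwa [Nat.add_sub_cancel] at h
  · have h := hT.top_one
    rwa [Nat.add_sub_cancel] at h
  · have hM' : PicF.cl M = PicF.cl (CohB1.tensorMod ((Scheme.Modules.pullback (LefPen.ciIdeal G).subschemeι).obj
        (Twist.twistProjSpace (n + d) k t)) (ExtBase.L E j)) := hM.trans (cl_tensor _ _).symm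
    obtain ⟨e⟩ := cl_eq_iff.1 hM'
    refine subsingleton_HH G hover ?_ q hq
    exact QCoh.isQCoh_of_isFinLocFree (H23.PullPush.isFinLocFree_of_iso e.symm (Synt29.PnEuler.isFinLocFree_tensorMod
      (KvbModel.lf_of_rank (InvEnd.isFinLocFreeOfRank_one (PicClLib.isInvertible_pullback _ (KPn.inv_tw k (n + d) t))))
      (ExtSh.isFinLocFree_L j hE)))
  · exact subsingleton_HH G hover (QCoh.isQCoh_of_isFinLocFree (KvbModel.lf_of_rank (rank_twY G hM))) q hq

theorem eulerData : EulerData (twY G) (OmP G) := by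
  intro j t
  haveI : IsProper (CohB1.ProjSpace.toSpec (n + d) k) := PnCoh.Chow.isProper_toSpec.{u} (n + d) k
  have hΩ := Synt29.PnEuler.isFinLocFree_of_rank (Synt29.PnEuler.rank_omega (n + d) k)
  obtain ⟨T, hT, h1, h3, N, α, β, hab⟩ := Synt29.PnEuler.exists_euler (n + d) k j t
  have hX₃ : FlatMod.IsFinLocFree T.X₃ := by
    have h3' : PicF.cl T.X₃ = PicF.cl (CohB1.tensorMod (Twist.twistProjSpace (n + d) k t)
      (ExtBase.L (Omega.sheaf (CohB1.ProjSpace.toSpec (n + d) k)) j)) := h3.trans (cl_tensor _ _).symm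
    obtain ⟨e⟩ := cl_eq_iff.1 h3'
    exact H23.PullPush.isFinLocFree_of_iso e.symm (Synt29.PnEuler.isFinLocFree_tensorMod
      (Hirz.lf_inv (KPn.inv_tw k (n + d) t)) (ExtSh.isFinLocFree_L _ hΩ))
  have hT' := PullVB.shortExact_pullback (LefPen.ciIdeal G).subschemeι hT (KFlatLib.isFlat_of_isFinLocFree hX₃)
  refine ⟨_, hT', ?_, ?_, (Scheme.Modules.pullback (LefPen.ciIdeal G).subschemeι).obj (Twist.twistProjSpace (n + d) k (t - (j + 1))), N,
    fun l => (Scheme.Modules.pullback (LefPen.ciIdeal G).subschemeι).map (α l), fun l => (Scheme.Modules.pullback (LefPen.ciIdeal G).subschemeι).map (β l), rfl, ?_⟩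
  · show PicF.pullCl (LefPen.ciIdeal G).subschemeι (PicF.cl T.X₁) = _
    rw [h1, Synt29.PnEuler.hodge, pullCl_mul, ← Hirz.cl_L_pullback (LefPen.ciIdeal G).subschemeι hΩ]
    rfl
  · show PicF.pullCl (LefPen.ciIdeal G).subschemeι (PicF.cl T.X₃) = _
    rw [h3, Synt29.PnEuler.hodge, pullCl_mul, ← Hirz.cl_L_pullback (LefPen.ciIdeal G).subschemeι hΩ]
    rfl
  · refine Eq.trans ?_ ((congrArg (Scheme.Modules.pullback (LefPen.ciIdeal G).subschemeι).map hab).trans
      (CategoryTheory.Functor.map_id _ _))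
    rw [Functor.map_sum]
    exact Finset.sum_congr rfl fun l _ => (Functor.map_comp _ _ _).symm

theorem cls_top (t : ℤ) : cls (twY G) (OmP G) (n + d) t = twY G (t - ((n + d : ℕ) + 1)) := by
  haveI : IsProper (CohB1.ProjSpace.toSpec (n + d) k) := PnCoh.Chow.isProper_toSpec.{u} (n + d) k
  have hΩ := Synt29.PnEuler.isFinLocFree_of_rank (Synt29.PnEuler.rank_omega (n + d) k)
  rw [cls, twY, Hirz.cl_L_pullback (LefPen.ciIdeal G).subschemeι hΩ, Synt29.SurfP3.cl_omega_top (n + d) k (ExtSh.isExtPow_L (n + d) hΩ),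
    ← pullCl_mul, twY, sub_eq_add_neg, ← Synt29.PnEuler.tw_add]

theorem exists_epi_sum : ∃ ψ : ∀ l, Twist.twistProjSpace (n + d) k (-(a l : ℤ)) ⟶ ClSub.idealMod (LefPen.ciIdeal G),
    Epi (ddesc ψ) := by
  choose ψ hψ using fun l => Synt29.CITwo.exists_map (G l) (le_iSup (fun l => LefPen.hypIdeal (G l)) l)
  refine ⟨ψ, ?_⟩
  have hT : ∀ i : ℤ, FlatMod.IsFinLocFree (Twist.twistProjSpace (n + d) k i) := fun i =>
    Hirz.lf_inv (KPn.inv_tw k (n + d) i)
  have hA : Coh.IsQCoh (dsum fun l => Twist.twistProjSpace (n + d) k (-(a l : ℤ))) :=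
    QCoh.isQCoh_of_isFinLocFree (KvbModel.lf_of_rank
      (rank_dsum fun l => InvEnd.isFinLocFreeOfRank_one (KPn.inv_tw k (n + d) _)))
  have hJq : Coh.IsQCoh (ClSub.idealMod (LefPen.ciIdeal G)) := PPSheaf.isQCoh_idealMod _
  have hz : ∀ l, ψ l ≫ cokernel.π (ddesc ψ) = 0 := (ddesc_comp_eq_zero ψ _).1 (cokernel.condition _)
  refine Abelian.epi_of_cokernel_π_eq_zero _ ?_
  refine QCoh.hom_eq_zero_of_cover hJq (QCoh.isQCoh_cokernel hA hJq _) _ (LefPen.chart (n + d) k)
    (fun l => (LefPenLib.chartAff l).2)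
    (fun x => Opens.mem_iSup.1 ((LefPenLib.iSup_chart (r := n + d) (k := k)).ge (Set.mem_univ x))) fun l x => ?_
  have hx := OmegaLib.idealSect_mem (LefPen.ciIdeal G) (LefPenLib.chartAff l) x
  suffices key : ∀ b ∈ (LefPen.ciIdeal G).ideal (LefPenLib.chartAff l),
      ∃ y, OmegaSh.idealSect (LefPen.ciIdeal G) (LefPenLib.chartAff l).1 y = b ∧
        (cokernel.π (ddesc ψ)).app (LefPenLib.chartAff l).1 y = 0 by
    obtain ⟨y, hy, hy0⟩ := key _ hx
    rw [← OmegaLib.idealSect_injective _ _ hy]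
    exact hy0
  intro b hb
  rw [LefPen.ciIdeal, Scheme.IdealSheafData.ideal_iSup, iSup_apply] at hb
  refine Submodule.iSup_induction _ (motive := fun b => ∃ y,
    OmegaSh.idealSect (LefPen.ciIdeal G) (LefPenLib.chartAff l).1 y = b ∧
      (cokernel.π (ddesc ψ)).app (LefPenLib.chartAff l).1 y = 0) hb (fun i c hc => ?_)
    ⟨0, map_zero _, map_zero _⟩ ?_
  · obtain ⟨s, hs⟩ := hψ i l c hc
    exact ⟨_, hs, congr(($(hz i)).app (LefPenLib.chartAff l).1 s)⟩
  · rintro b c ⟨y, hy, hy0⟩ ⟨z, hz', hz0⟩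
    exact ⟨y + z, by rw [map_add, hy, hz'], by rw [map_add, hy0, hz0, add_zero]⟩

theorem chain_omega : ∃ c : Fin d → PicF.Cl (LefPen.ciIdeal G).subscheme,
    (∀ j, c j = twY G (-(a j : ℤ))) ∧ Chain n d c (OmP G) (OmY G) ∧
      FlatMod.IsFinLocFreeOfRank n (OmY G) := by
  haveI : IsProper (CohB1.ProjSpace.toSpec (n + d) k) := PnCoh.Chow.isProper_toSpec.{u} (n + d) k
  let f := CohB1.ProjSpace.toSpec (n + d) k
  let i := (LefPen.ciIdeal G).subschemeι
  haveI : Smooth (i ≫ f) := SmoothOfRelativeDimension.smooth n _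
  haveI : IsLocallyNoetherian (LefPen.ciIdeal G).subscheme := LocallyOfFiniteType.isLocallyNoetherian (i ≫ f)
  obtain ⟨φ, hφ⟩ := GrpOmega.exists_conormalDiff f i (Omega.sheaf f) (OmegaSh.dOmega f)
  obtain ⟨c, hc, -⟩ := S9370.result f (i ≫ f) i (𝟙 _) (Category.comp_id _) (Omega.sheaf f) (OmegaSh.dOmega f)
    (OmegaUniv.isUniversal_dOmega f) (Omega.sheaf (i ≫ f)) (OmegaSh.dOmega (i ≫ f))
    (OmegaUniv.isUniversal_dOmega (i ≫ f))
  obtain ⟨hepi, him⟩ := S5976.result f i (Omega.sheaf f) (OmegaSh.dOmega f) (OmegaUniv.isUniversal_dOmega f)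
    (Omega.sheaf (i ≫ f)) (OmegaSh.dOmega (i ≫ f)) (OmegaUniv.isUniversal_dOmega (i ≫ f)) φ hφ c hc
  haveI : Mono φ := S5020.result i f ((S1488.result (i ≫ f)).mp inferInstance).2 (Omega.sheaf f)
    (OmegaSh.dOmega f) (OmegaUniv.isUniversal_dOmega f) φ hφ
  have w : φ ≫ c = 0 := by
    rw [← imageSubobject_arrow_comp φ, Category.assoc]
    refine (congrArg (factorThruImageSubobject φ ≫ ·) ?_).trans comp_zero
    have hle : imageSubobject φ ≤ kernelSubobject c := him.le
    rw [← Subobject.ofLE_arrow hle, Category.assoc, kernelSubobject_arrow_comp, comp_zero]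
  have hS : (ShortComplex.mk φ c w).ShortExact :=
    { exact := (ShortComplex.exact_iff_image_eq_kernel _).2 him }
  have hY : FlatMod.IsFinLocFreeOfRank n (OmY G) := KExact.DiagCodim.rank_omega (i ≫ f) n
  have hP : FlatMod.IsFinLocFreeOfRank (n + d) (OmP G) :=
    LineTwist.rank_pull _ (Synt29.PnEuler.rank_omega (n + d) k)
  haveI := hS.mono_f
  haveI := hS.epi_g
  have hK : FlatMod.IsFinLocFreeOfRank d (Omega.conormal i) := by
    have h := Synt29.StalkMat.rank_kernel c hP hY
    rw [Nat.add_sub_cancel_left] at h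
    exact Hirz.rank_of_iso (IsLimit.conePointUniqueUpToIso (kernelIsKernel c) hS.fIsKernel) h
  obtain ⟨ψ, hψ⟩ : ∃ ψ : ∀ l, Twist.twistProjSpace (n + d) k (-(a l : ℤ)) ⟶ ClSub.idealMod i.ker,
      Epi (ddesc ψ) := by
    rw [Scheme.IdealSheafData.ker_subschemeι]
    exact exists_epi_sum G
  let F := Scheme.Modules.pullback i
  let adj := Scheme.Modules.pullbackPushforwardAdjunction i
  let δ : dsum (fun l => F.obj (Twist.twistProjSpace (n + d) k (-(a l : ℤ)))) ⟶ Omega.conormal i :=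
    ddesc fun l => F.map (ψ l)
  haveI : Epi δ := by
    refine Preadditive.epi_of_cancel_zero _ fun {Z} v hv => ?_
    have h0 := (ddesc_comp_eq_zero (fun l => F.map (ψ l)) v).1 hv
    have h1 : ddesc ψ ≫ adj.homEquiv _ _ v = 0 := (ddesc_comp_eq_zero ψ _).2 fun l => by
      rw [← adj.homEquiv_naturality_left, h0 l, Adjunction.homEquiv_unit, Functor.map_zero, comp_zero]
    haveI := hψ
    have h2 := (cancel_epi (ddesc ψ)).1 (h1.trans comp_zero.symm)
    have h3 : (adj.homEquiv _ _).symm (adj.homEquiv _ _ v) = (adj.homEquiv _ _).symm 0 := congrArg _ h2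
    rw [Equiv.symm_apply_apply, Adjunction.homEquiv_counit, Functor.map_zero, zero_comp] at h3
    exact h3
  have hL : ∀ l, FlatMod.IsFinLocFreeOfRank 1 (F.obj (Twist.twistProjSpace (n + d) k (-(a l : ℤ)))) :=
    fun l => InvEnd.isFinLocFreeOfRank_one (PicClLib.isInvertible_pullback _ (KPn.inv_tw k (n + d) _))
  haveI : IsIso δ := SeesawX.isIso_of_epi_rank (rank_dsum hL) hK δ
  exact ⟨_, fun j => rfl, chain_of_ses hS ⟨(asIso δ).symm⟩ hL hY, hY⟩

include hover in
/-- The Hodge cohomology of a smooth complete intersection of positive dimension. -/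
theorem hodge (ha : ∀ j, 1 ≤ a j) (hn : 0 < n) {j : ℕ} {L : (LefPen.ciIdeal G).subscheme.Modules}
    (hL : ExtPow.IsExtPow j (OmY G) L) (i : ℕ) (hij : i + j ≠ n) :
    (i ≠ j → Subsingleton (Coh.HH (LefPen.ciIdeal G).subscheme L i)) ∧
      (i = j → i ≤ n → One k L i) := by
  haveI : IsProper (CohB1.ProjSpace.toSpec (n + d) k) := PnCoh.Chow.isProper_toSpec.{u} (n + d) k
  have D := twistData G hover ha hn
  obtain ⟨c, hc, hC, hY⟩ := chain_omega G
  have hP : FlatMod.IsFinLocFreeOfRank (n + d) (OmP G) :=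
    LineTwist.rank_pull _ (Synt29.PnEuler.rank_omega (n + d) k)
  have hE := eulerData G
  obtain ⟨hlo, hup⟩ := chain_hodge k D hC hc ha (KvbModel.lf_of_rank hP) hY
    (lower_euler k D (KvbModel.lf_of_rank hP) hE) (upper_euler k D hP rfl rfl hn (cls_top G) hE)
  have hcl : PicF.cl L = cls (twY G) (OmY G) j 0 := by
    obtain ⟨e⟩ := ExtSh.nonempty_iso_L (KvbModel.lf_of_rank hY) hL
    rw [cls, twY, Synt29.PnEuler.tw_zero, pullCl_one, one_mul, cl_eq_iff.2 ⟨e⟩]
  rcases Nat.lt_or_gt_of_ne hij with h | h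
  · obtain ⟨h1, h2⟩ := hlo j i 0 le_rfl h
    exact ⟨fun hne => h1 (fun hh => hne hh.2) L hcl, fun he _ => h2 rfl he L hcl⟩
  · obtain ⟨h1, h2⟩ := hup j i 0 (by omega) le_rfl
    exact ⟨fun hne => h1 (fun hh => hne (by omega)) L hcl, fun he hle => h2 rfl (by omega) (by omega) L hcl⟩

end Groth.Agent.H28.CIHodge
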