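import Groth.Agent.Synt29.PnHodge
import Groth.Agent.CurveCohLib.Euler
import Groth.Agent.H23.PicMul

/-!
# Comparisons along long exact sequences

The cohomology of one term of a short exact sequence is that of another when the third one is acyclic in the
two neighbouring degrees.
-/

set_option autoImplicit false
set_option linter.style.haveILetI false
set_option linter.unusedSectionVars false
set_option backward.isDefEq.respectTransparency false
set_option backward.isDefEq.respectTransparency.types false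

universe u

open CategoryTheory CategoryTheory.Limits AlgebraicGeometry TopologicalSpace
open Groth.Agent.PnCoh.Finite (mapLin deltaLin)

noncomputable section

namespace Groth.Agent.H28.CIHodge

open Groth.Agent

variable (k : Type u) [Field k] {X : Scheme.{u}} [X.Over (Spec (CommRingCat.of k))]

/-- The group is a line. -/
def One (M : X.Modules) (q : ℕ) : Prop := Nonempty (Coh.HH X M q ≃ₗ[k] k)

/-- The groups are equivalent. -/
def Eqv (M N : X.Modules) (q q' : ℕ) : Prop := Nonempty (Coh.HH X M q ≃ₗ[k] Coh.HH X N q')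

theorem Eqv.symm {M N : X.Modules} {q q' : ℕ} (h : Eqv k M N q q') : Eqv k N M q' q :=
  h.map LinearEquiv.symm

theorem Eqv.trans {M N K : X.Modules} {q q' q'' : ℕ} (h : Eqv k M N q q') (h' : Eqv k N K q' q'') :
    Eqv k M K q q'' :=
  let ⟨e⟩ := h; let ⟨e'⟩ := h'; ⟨e.trans e'⟩

theorem Eqv.subsingleton {M N : X.Modules} {q q' : ℕ} (h : Eqv k M N q q')
    (hs : Subsingleton (Coh.HH X N q')) : Subsingleton (Coh.HH X M q) :=
  let ⟨e⟩ := h; e.toEquiv.subsingleton

theorem Eqv.one {M N : X.Modules} {q q' : ℕ} (h : Eqv k M N q q') (hs : One k N q') : One k M q :=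
  let ⟨e⟩ := h; let ⟨e'⟩ := hs; ⟨e.trans e'⟩

theorem One.finrank_eq {M : X.Modules} {q : ℕ} (h : One k M q) : Module.finrank k (Coh.HH X M q) = 1 :=
  let ⟨e⟩ := h; e.finrank_eq.trans (Module.finrank_self k)

theorem eqv_of_iso {M N : X.Modules} (e : M ≅ N) (q : ℕ) : Eqv k M N q q :=
  ⟨Synt29.PnHodge.equivLin k e q⟩

variable {S : ShortComplex X.Modules}

theorem eqv_g (hS : S.ShortExact) (q : ℕ) (h : Subsingleton (Coh.HH X S.X₁ q))
    (h' : Subsingleton (Coh.HH X S.X₁ (q + 1))) : Eqv k S.X₂ S.X₃ q q := by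
  refine ⟨LinearEquiv.ofBijective (mapLin k S.g q) ⟨(injective_iff_map_eq_zero _).2 fun x hx => ?_, fun x => ?_⟩⟩
  · have hx' : x ∈ LinearMap.ker (mapLin k S.g q) := hx
    rw [CurveCohLib.ker_mapLin_g k hS q] at hx'
    obtain ⟨y, rfl⟩ := hx'
    rw [Subsingleton.elim y 0, map_zero]
  · exact PnCoh.Finite.exists_of_deltaLin_eq_zero k hS q (Subsingleton.elim _ _)

theorem eqv_delta (hS : S.ShortExact) (q : ℕ) (h : Subsingleton (Coh.HH X S.X₂ q))
    (h' : Subsingleton (Coh.HH X S.X₂ (q + 1))) : Eqv k S.X₃ S.X₁ q (q + 1) :=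
  ⟨LinearEquiv.ofBijective (deltaLin k hS q)
    ⟨Synt29.PnHodge.delta_injective k hS q h, Synt29.PnHodge.delta_surjective k hS q h'⟩⟩

theorem eqv_f_succ (hS : S.ShortExact) (q : ℕ) (h : Subsingleton (Coh.HH X S.X₃ q))
    (h' : Subsingleton (Coh.HH X S.X₃ (q + 1))) : Eqv k S.X₁ S.X₂ (q + 1) (q + 1) := by
  refine ⟨LinearEquiv.ofBijective (mapLin k S.f (q + 1))
    ⟨(injective_iff_map_eq_zero _).2 fun x hx => ?_, fun x => ?_⟩⟩
  · have hx' : x ∈ LinearMap.ker (mapLin k S.f (q + 1)) := hx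
    rw [CurveCohLib.ker_mapLin_f_succ k hS q] at hx'
    obtain ⟨y, rfl⟩ := hx'
    rw [Subsingleton.elim y 0, map_zero]
  · have hx : x ∈ LinearMap.ker (mapLin k S.g (q + 1)) := Subsingleton.elim _ _
    rw [CurveCohLib.ker_mapLin_g k hS (q + 1)] at hx
    exact hx

include k in
theorem subsingleton_mid (hS : S.ShortExact) (q : ℕ) (h : Subsingleton (Coh.HH X S.X₁ q))
    (h' : Subsingleton (Coh.HH X S.X₃ q)) : Subsingleton (Coh.HH X S.X₂ q) :=
  subsingleton_of_forall_eq 0 fun x => by
    have hx : x ∈ LinearMap.ker (mapLin k S.g q) := Subsingleton.elim _ _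
    rw [CurveCohLib.ker_mapLin_g k hS q] at hx
    obtain ⟨y, rfl⟩ := hx
    rw [Subsingleton.elim y 0, map_zero]

end Groth.Agent.H28.CIHodge
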