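import Groth.Agent.GrLib8.CICoh.Main
import Groth.Agent.GrLib8.RegTilde.Exact
import Groth.Agent.GrLib8.SerreCorr.Graded
import Groth.Agent.H28.CIHodge.Ses
import Groth.Agent.S0845

/-!
# The sheaves of the coordinate rings of successive complete intersections

Multiplication by the next form gives a short exact sequence on projective space, from which the cohomology
of the twists follows by induction on the number of forms.
-/

set_option autoImplicit false
set_option linter.style.haveILetI false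
set_option linter.unusedSectionVars false
set_option backward.isDefEq.respectTransparency false
set_option backward.isDefEq.respectTransparency.types false
set_option maxHeartbeats 1000000

universe u

open CategoryTheory CategoryTheory.Limits AlgebraicGeometry TopologicalSpace Opposite DirectSum MvPolynomial
open Groth.Agent.GrLib8 Groth.Agent.GrLib8.CICoh

noncomputable section

namespace Groth.Agent.H28.CIHodge

open Groth.Agent

section Reindex

variable {A σ : Type u} [CommRing A] [SetLike σ A] [AddSubgroupClass σ A] (𝒜 : ℕ → σ) [GradedRing 𝒜]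
variable {M τ τ' : Type u} [AddCommGroup M] [Module A M] [SetLike τ M] [AddSubgroupClass τ M] {ℳ : ℕ → τ}
  [SetLike.GradedSMul 𝒜 ℳ] [SetLike τ' M] [AddSubgroupClass τ' M] {𝒩 : ℕ → τ'} [SetLike.GradedSMul 𝒜 𝒩]

/-- Fractions of degree `n` for `ℳ` are fractions of degree `n'` for `𝒩`. -/
def ReLE (ℳ : ℕ → τ) (𝒩 : ℕ → τ') (n n' : ℤ) : Prop :=
  ∀ (i j : ℕ) (m : M), m ∈ ℳ i → (i : ℤ) = j + n → m = 0 ∨ ∃ i' : ℕ, (i' : ℤ) = j + n' ∧ m ∈ 𝒩 i'

theorem tildeAt_le {n n' : ℤ} (h : ReLE ℳ 𝒩 n n') (x : ProjectiveSpectrum 𝒜) :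
    GrMod.tildeAt 𝒜 ℳ n x ≤ GrMod.tildeAt 𝒜 𝒩 n' x := by
  refine Submodule.span_le.2 ?_
  rintro q ⟨i, j, ⟨m, hm⟩, s, hs, hij, rfl⟩
  rcases h i j m hm hij with rfl | ⟨i', hi', hm'⟩
  · rw [LocalizedModule.zero_mk]
    exact Submodule.zero_mem _
  · exact Submodule.subset_span ⟨i', j, ⟨m, hm'⟩, s, hs, hi', rfl⟩

variable {n n' : ℤ} (h : ReLE ℳ 𝒩 n n')

/-- The same section, for the other family. -/
def reApp {U : (Opens (ProjectiveSpectrum.top 𝒜))ᵒᵖ} (f : GrMod.sect 𝒜 ℳ n U) : GrMod.sect 𝒜 𝒩 n' U :=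
  ⟨fun x => ⟨(f.1 x).1, tildeAt_le 𝒜 h x.1 (f.1 x).2⟩, fun x => by
    obtain ⟨V, hxV, iV, i, j, m, d, hnin, hdeg, hval⟩ := f.2 x
    rcases hdeg with hij | hm0
    · rcases h i j m.1 m.2 hij with hm0 | ⟨i', hi', hm'⟩
      · exact ⟨V, hxV, iV, 0, j, ⟨0, zero_mem _⟩, d, hnin, Or.inr rfl, fun y => (hval y).trans (by rw [hm0])⟩
      · exact ⟨V, hxV, iV, i', j, ⟨m.1, hm'⟩, d, hnin, Or.inl hi', hval⟩
    · exact ⟨V, hxV, iV, 0, j, ⟨0, zero_mem _⟩, d, hnin, Or.inr rfl, fun y => (hval y).trans (by rw [hm0])⟩⟩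

/-- The map of sheaves. -/
def reHom : GrMod.tilde 𝒜 ℳ n ⟶ GrMod.tilde 𝒜 𝒩 n' :=
  ⟨PresheafOfModules.homMk
    { app := fun U => AddCommGrpCat.ofHom
        { toFun := fun f => reApp 𝒜 h f
          map_zero' := rfl
          map_add' := fun _ _ => rfl }
      naturality := fun _ _ _ => rfl }
    fun _ _ _ => rfl⟩

theorem nonempty_reindex (h : ReLE ℳ 𝒩 n n') (h' : ReLE 𝒩 ℳ n' n) :
    Nonempty (GrMod.tilde 𝒜 ℳ n ≅ GrMod.tilde 𝒜 𝒩 n') :=
  ⟨{ hom := reHom 𝒜 h
     inv := reHom 𝒜 h'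
     hom_inv_id := Scheme.Modules.hom_ext _ _ fun U => by ext s; rfl
     inv_hom_id := Scheme.Modules.hom_ext _ _ fun U => by ext s; rfl }⟩

end Reindex

variable {k : Type u} [Field k] {N r : ℕ} {a : Fin (r + 1) → ℕ}
variable (G : ∀ j : Fin (r + 1), LefPen.Form N k (a j))

local notation "S" => MvPolynomial (Fin (N + 1)) k
local notation "Pgr" => CohB1.polyGrading N k
local notation "𝒜z" => GrSyz.stdGr k (Fin (N + 1))

/-- All but the last form. -/
abbrev front : ∀ j : Fin r, LefPen.Form N k (a j.castSucc) := fun j => G j.castSucc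

/-- The last form. -/
abbrev lastF : S := (G (Fin.last r) : S)

theorem forms_eq : forms G = forms (front G) ++ [lastF G] := by
  rw [forms, List.ofFn_succ', List.concat_eq_append]
  rfl

theorem ofList_forms : Ideal.ofList (forms G) = Ideal.ofList (forms (front G)) ⊔ Ideal.span {lastF G} := by
  rw [forms_eq, Ideal.ofList_append, Ideal.ofList_singleton]

theorem regular_front (h : RingTheory.Sequence.IsWeaklyRegular S (forms G)) :
    RingTheory.Sequence.IsWeaklyRegular S (forms (front G)) :=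
  ((RingTheory.Sequence.isWeaklyRegular_append_iff S _ _).1 (forms_eq G ▸ h)).1

theorem regular_last (h : RingTheory.Sequence.IsWeaklyRegular S (forms G)) (c : S)
    (hc : lastF G * c ∈ Ideal.ofList (forms (front G))) : c ∈ Ideal.ofList (forms (front G)) := by
  have h' := ((RingTheory.Sequence.isWeaklyRegular_append_iff S _ _).1 (forms_eq G ▸ h)).2
  rw [RingTheory.Sequence.isWeaklyRegular_singleton_iff] at h'
  have e : (Ideal.ofList (forms (front G)) • ⊤ : Submodule S S) = Ideal.ofList (forms (front G)) := by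
    rw [smul_eq_mul, Ideal.mul_top]
  rw [e] at h'
  have h0 : (Submodule.Quotient.mk c : S ⧸ (Ideal.ofList (forms (front G)) : Submodule S S)) = 0 :=
    h' (show lastF G • (Submodule.Quotient.mk c : S ⧸ (Ideal.ofList (forms (front G)) : Submodule S S)) =
      lastF G • 0 by rw [smul_zero, ← Submodule.Quotient.mk_smul, Submodule.Quotient.mk_eq_zero]; exact hc)
  exact (Submodule.Quotient.mk_eq_zero _).1 h0

/-- The shifted pieces. -/
abbrev shQ : ℕ → AddSubgroup (Q (front G)).carrier :=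
  fun i => (Q (front G)).gr ((i : ℤ) - (a (Fin.last r) : ℤ))

instance : SetLike.GradedSMul Pgr (shQ G) :=
  ⟨fun {i j c m} hc hm => by
    have h : c • m ∈ (Q (front G)).gr ((i : ℤ) + ((j : ℤ) - (a (Fin.last r) : ℤ))) :=
      SetLike.GradedSMul.smul_mem (A := 𝒜z) (B := (Q (front G)).gr) (RegTilde.mem_stdGr_natCast.2 hc) hm
    show c • m ∈ (Q (front G)).gr (((i + j : ℕ) : ℤ) - (a (Fin.last r) : ℤ))
    rwa [show ((i + j : ℕ) : ℤ) - (a (Fin.last r) : ℤ) = (i : ℤ) + ((j : ℤ) - (a (Fin.last r) : ℤ)) by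
      push_cast; ring]⟩

/-- Multiplication by the last form. -/
def mulLast : (Q (front G)).carrier →ₗ[S] (Q (front G)).carrier :=
  LinearMap.lsmul S (Q (front G)).carrier (lastF G)

theorem mulLast_mem (i : ℕ) (m : (Q (front G)).carrier) (hm : m ∈ shQ G i) :
    mulLast G m ∈ QN (front G) i := by
  have h : lastF G • m ∈ (Q (front G)).gr ((a (Fin.last r) : ℤ) + ((i : ℤ) - (a (Fin.last r) : ℤ))) :=
    SetLike.GradedSMul.smul_mem (A := 𝒜z) (B := (Q (front G)).gr)
      (RegTilde.mem_stdGr_natCast.2 (G (Fin.last r)).2) hm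
  rwa [add_sub_cancel] at h

/-- The quotient map. -/
def quotLast : (Q (front G)).carrier →ₗ[S] (Q G).carrier :=
  Submodule.mapQ (Ideal.ofList (forms (front G)) : Submodule S S) (Ideal.ofList (forms G) : Submodule S S)
    LinearMap.id ((le_sup_left.trans (ofList_forms G).ge : Ideal.ofList (forms (front G)) ≤ Ideal.ofList (forms G)))

theorem quotLast_mk (c : S) : quotLast G (Submodule.Quotient.mk c) = Submodule.Quotient.mk c := rfl

theorem quotLast_mem (i : ℕ) (m : (Q (front G)).carrier) (hm : m ∈ QN (front G) i) :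
    quotLast G m ∈ QN G i := by
  obtain ⟨c, hc, rfl⟩ := hm
  exact ⟨c, hc, rfl⟩

theorem quotLast_surj (i : ℕ) (p : (Q G).carrier) (hp : p ∈ QN G i) :
    ∃ y ∈ QN (front G) i, quotLast G y = p := by
  obtain ⟨c, hc, rfl⟩ := hp
  exact ⟨Submodule.Quotient.mk c, ⟨c, hc, rfl⟩, rfl⟩

theorem comp_zero' : quotLast G ∘ₗ mulLast G = 0 := by
  refine LinearMap.ext fun x => ?_
  obtain ⟨c, rfl⟩ := Submodule.Quotient.mk_surjective _ x
  show quotLast G (lastF G • (Submodule.Quotient.mk c : (Q (front G)).carrier)) = 0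
  rw [← Submodule.Quotient.mk_smul, quotLast_mk]
  refine (Submodule.Quotient.mk_eq_zero _).2 ?_
  show lastF G • c ∈ Ideal.ofList (forms G)
  rw [ofList_forms]
  exact Ideal.mul_mem_right _ _ (Ideal.mem_sup_right (Ideal.mem_span_singleton_self _))

theorem lift_ker (i : ℕ) (y : (Q (front G)).carrier) (hy : y ∈ QN (front G) i) (h : quotLast G y = 0) :
    ∃ m ∈ shQ G i, mulLast G m = y := by
  classical
  obtain ⟨c, hc, rfl⟩ := hy
  have hc' : c ∈ Pgr i := RegTilde.mem_stdGr_natCast.1 hc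
  have h' : c ∈ Ideal.ofList (forms G) := (Submodule.Quotient.mk_eq_zero _).1 h
  rw [ofList_forms] at h'
  obtain ⟨p, hp, q, hq, hpq⟩ := Submodule.mem_sup.1 h'
  obtain ⟨b, rfl⟩ := Ideal.mem_span_singleton'.1 hq
  have hpi : ((decompose Pgr p i : Pgr i) : S) ∈ Ideal.ofList (forms (front G)) :=
    isHomogeneous_forms (front G) i hp
  have hci : c = (decompose Pgr p i : Pgr i) + (decompose Pgr (b * lastF G) i : Pgr i) := by
    rw [← decompose_of_mem_same Pgr hc', ← hpq, decompose_add, DirectSum.add_apply, AddMemClass.coe_add]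
  by_cases hle : a (Fin.last r) ≤ i
  · let b₀ : S := (decompose Pgr b (i - a (Fin.last r)) : Pgr (i - a (Fin.last r)))
    refine ⟨Submodule.Quotient.mk b₀, ⟨b₀, ?_, rfl⟩, ?_⟩
    · rw [show (i : ℤ) - (a (Fin.last r) : ℤ) = ((i - a (Fin.last r) : ℕ) : ℤ) by omega]
      exact RegTilde.mem_stdGr_natCast.2 (SetLike.coe_mem _)
    · show lastF G • (Submodule.Quotient.mk b₀ : (Q (front G)).carrier) = _
      rw [← Submodule.Quotient.mk_smul]
      refine (Submodule.Quotient.eq _).2 ?_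
      rw [coe_decompose_mul_of_right_mem_of_le Pgr (G (Fin.last r)).2 hle] at hci
      show lastF G * b₀ - c ∈ Ideal.ofList (forms (front G))
      rw [hci, show lastF G * b₀ - (((decompose Pgr p i : Pgr i) : S) + b₀ * lastF G) =
        -((decompose Pgr p i : Pgr i) : S) by ring]
      exact neg_mem hpi
  · refine ⟨0, zero_mem _, ?_⟩
    rw [map_zero]
    rw [coe_decompose_mul_of_right_mem_of_not_le Pgr (G (Fin.last r)).2 hle, add_zero] at hci
    exact ((Submodule.Quotient.mk_eq_zero _).2 (hci ▸ hpi)).symm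

theorem mulLast_injective (hreg : RingTheory.Sequence.IsWeaklyRegular S (forms G)) :
    Function.Injective (mulLast G) := by
  refine (injective_iff_map_eq_zero _).2 fun x hx => ?_
  obtain ⟨c, rfl⟩ := Submodule.Quotient.mk_surjective _ x
  have h0 : lastF G • c ∈ Ideal.ofList (forms (front G)) :=
    (Submodule.Quotient.mk_eq_zero _).1 ((Submodule.Quotient.mk_smul _ _ _).trans hx)
  exact (Submodule.Quotient.mk_eq_zero _).2 (regular_last G hreg c h0)

/-- The sheaf of the coordinate ring, twisted. -/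
abbrev qT {r : ℕ} {a : Fin r → ℕ} (G : ∀ j : Fin r, LefPen.Form N k (a j)) (s : ℤ) :
    (CohB1.ProjSpace N k).Modules :=
  GrMod.tilde Pgr (QN G) s

theorem exists_ses (hreg : RingTheory.Sequence.IsWeaklyRegular S (forms G)) (s : ℤ) :
    ∃ T : ShortComplex (CohB1.ProjSpace N k).Modules, T.ShortExact ∧
      Nonempty (T.X₁ ≅ qT (front G) (s - a (Fin.last r))) ∧ Nonempty (T.X₂ ≅ qT (front G) s) ∧
      Nonempty (T.X₃ ≅ qT G s) := by
  have hP : ∀ (c : S) (i : ℕ) (p : (Q G).carrier), p ∈ QN G i → c • p = 0 →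
      ∀ e, (decompose Pgr c e : S) • p = 0 := fun c i p hp hcp e =>
    SerreCorr.ann_component (ℳ := (Q G).gr) (fun _ _ => RegTilde.mem_stdGr_natCast) hp hcp e
  obtain ⟨w, hepi⟩ := RegTilde.exact_map_tilde Pgr (ℳ := shQ G) (𝒩 := QN (front G)) (𝒬 := QN G)
    (mulLast G) (mulLast_mem G) (quotLast G) (quotLast_mem G) (comp_zero' G) hP (lift_ker G) s
  haveI : Mono (GrMod.map Pgr (ℳ := shQ G) (𝒩 := QN (front G)) (mulLast G) (mulLast_mem G) s) := by
    refine ⟨fun {W} g g' e => Scheme.Modules.hom_ext _ _ fun U => ?_⟩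
    ext z
    refine GrModX.ext_val Pgr (shQ G) fun y => ?_
    apply LocalizedModule.map_injective y.1.asHomogeneousIdeal.toIdeal.primeCompl (mulLast G)
      (mulLast_injective G hreg)
    exact congrArg (fun ψ : W ⟶ _ => GrMod.val (ψ.app U z) y) e
  haveI := RegTilde.epi_map_tilde Pgr (𝒩 := QN (front G)) (𝒬 := QN G) (quotLast G) (quotLast_mem G)
    (quotLast_surj G) s
  obtain ⟨e⟩ := nonempty_reindex Pgr (ℳ := shQ G) (𝒩 := QN (front G)) (n := s) (n' := s - a (Fin.last r))
    (fun i j m hm hij => by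
      rcases le_or_gt (a (Fin.last r)) i with hle | hlt
      · refine Or.inr ⟨i - a (Fin.last r), by omega, ?_⟩
        show m ∈ (Q (front G)).gr _
        rwa [show ((i - a (Fin.last r) : ℕ) : ℤ) = (i : ℤ) - (a (Fin.last r) : ℤ) by omega]
      · obtain ⟨c, hc, rfl⟩ := hm
        exact Or.inl (by rw [stdGr_nonneg k _ _ (by omega) c hc]; rfl))
    (fun i j m hm hij => Or.inr ⟨i + a (Fin.last r), by omega, by
      show m ∈ (Q (front G)).gr _
      rwa [show ((i + a (Fin.last r) : ℕ) : ℤ) - (a (Fin.last r) : ℤ) = (i : ℤ) by omega]⟩)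
  exact ⟨ShortComplex.mk _ _ w, { exact := ShortComplex.exact_iff_epi_kernel_lift _ |>.2 hepi },
    ⟨e⟩, ⟨Iso.refl _⟩, ⟨Iso.refl _⟩⟩

end Groth.Agent.H28.CIHodge
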