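import Groth.Agent.H28.CIHodge.Tilde
import Groth.Agent.S0843
import Groth.Agent.S0844

/-!
# The cohomology of the twists of a complete intersection

Vanishing in the middle, the global sections in degrees `≤ 0` and the top cohomology in degrees `≥ A - N - 1`, by
induction on the number of forms.
-/

set_option autoImplicit false
set_option linter.style.haveILetI false
set_option linter.unusedSectionVars false
set_option backward.isDefEq.respectTransparency false
set_option backward.isDefEq.respectTransparency.types false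
set_option maxHeartbeats 1000000

universe u

open CategoryTheory CategoryTheory.Limits AlgebraicGeometry TopologicalSpace Opposite DirectSum MvPolynomial
open Groth.Agent.GrLib8 Groth.Agent.GrLib8.CICoh

noncomputable section

namespace Groth.Agent.H28.CIHodge

open Groth.Agent

variable {k : Type u} [Field k] {N : ℕ}

local instance : (CohB1.ProjSpace N k).Over (Spec (CommRingCat.of k)) := ⟨CohB1.ProjSpace.toSpec N k⟩

/-- With no forms one has projective space. -/
theorem nonempty_iso_zero {a : Fin 0 → ℕ} (G : ∀ j : Fin 0, LefPen.Form N k (a j)) (s : ℤ) :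
    Nonempty (qT G s ≅ Twist.twistProjSpace N k s) := by
  have hT : Coh.IsQCoh (Twist.twistProjSpace N k s) := PnCoh.isQCoh_twist_mvPolynomial (Fin (N + 1)) k s
  obtain ⟨e, -⟩ := exists_iso_of_same_kernel (B₂ := Twist.twistProjSpace N k s) hT
    (GrModX.isQCoh_tilde _ (ℳ := QN G) s) hT (φ G s) (𝟙 _) (LefPen.chart N k)
    (fun l => (LefPenLib.chartAff l).2)
    (fun x => Opens.mem_iSup.1 ((LefPenLib.iSup_chart (r := N) (k := k)).ge (Set.mem_univ x)))
    (φ_surjective G s) (fun l y => ⟨y, rfl⟩) fun l x => by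
      obtain ⟨h, rfl⟩ := exists_smul_fr s l x
      refine (φ_eq_zero_iff G s l h).trans ?_
      rw [ideal_chart, Set.range_eq_empty, Ideal.span_empty, Ideal.mem_bot]
      refine ⟨fun h0 => ?_, fun h0 => ?_⟩
      · subst h0
        exact zero_smul Γ(CohB1.ProjSpace N k, LefPen.chart N k l) (fr s l)
      · exact (PnCoh.trivMap_bijective (LefPen.X_mem N k l) s (U := LefPen.chart N k l) (fun x => x.2)).1
          (show h • fr s l = (0 : Γ(CohB1.ProjSpace N k, LefPen.chart N k l)) • fr s l from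
            (show h • fr s l = 0 from h0).trans (zero_smul Γ(CohB1.ProjSpace N k, LefPen.chart N k l) (fr s l)).symm)
  exact ⟨e⟩

theorem one_top_Pn :
    One k (Twist.twistProjSpace N k (-((N : ℤ) + 1))) N := by
  obtain ⟨e⟩ := S0845.result k N 0
  obtain ⟨e'⟩ := Synt29.PnHodge.nonempty_homog_zero N k
  have h : One k (Twist.twistProjSpace N k (-((N : ℤ) + 1 + ((0 : ℕ) : ℤ)))) N := ⟨e.trans e'⟩
  rwa [Nat.cast_zero, add_zero] at h

theorem one_zero_Pn : One k (Twist.twistProjSpace N k 0) 0 := by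
  obtain ⟨e⟩ := S0843.result k N 0
  obtain ⟨e'⟩ := Synt29.PnHodge.nonempty_homog_zero N k
  exact ⟨e.trans e'⟩

/-- The computations used, for one family of forms. -/
structure TwistCoh {r : ℕ} {a : Fin r → ℕ} (G : ∀ j : Fin r, LefPen.Form N k (a j)) : Prop where
  mid : ∀ (s : ℤ) (p : ℕ), 0 < p → p + r < N → Subsingleton (Coh.HH (CohB1.ProjSpace N k) (qT G s) p)
  neg : ∀ s : ℤ, s < 0 → Subsingleton (Coh.HH (CohB1.ProjSpace N k) (qT G s) 0)
  zero : One k (qT G 0) 0
  top : ∀ s : ℤ, (∑ j, (a j : ℤ)) - (N + 1) < s →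
    Subsingleton (Coh.HH (CohB1.ProjSpace N k) (qT G s) (N - r))
  top_one : One k (qT G ((∑ j, (a j : ℤ)) - (N + 1))) (N - r)

theorem twistCoh : ∀ (r : ℕ) (a : Fin r → ℕ) (G : ∀ j : Fin r, LefPen.Form N k (a j)), (∀ j, 1 ≤ a j) →
    RingTheory.Sequence.IsWeaklyRegular (MvPolynomial (Fin (N + 1)) k) (forms G) → r < N → TwistCoh G := by
  intro r
  induction r with
  | zero =>
    intro a G _ _ hN
    have e := fun s => eqv_of_iso k (nonempty_iso_zero G s).some
    refine ⟨fun s p hp hpN => (e s p).subsingleton k (S0844.result k N s p (by omega) (by omega)),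
      fun s hs => (e s 0).subsingleton k (S0844.result k N s 0 (by omega) (by omega)),
      (e 0 0).one k one_zero_Pn, ?_, ?_⟩ <;> rw [Fintype.sum_empty, Nat.sub_zero]
    · exact fun s hs => (e s N).subsingleton k (S0844.result k N s N (by omega) (by omega))
    · rw [zero_sub]
      exact (e _ N).one k one_top_Pn
  | succ r ih =>
    intro a G ha hreg hN
    have h' := ih _ (front G) (fun j => ha _) (regular_front G hreg) (by omega)
    have hsum : ∑ j, (a j : ℤ) = (∑ j : Fin r, (a j.castSucc : ℤ)) + (a (Fin.last r) : ℤ) := Fin.sum_univ_castSucc _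
    have hA : (1 : ℤ) ≤ a (Fin.last r) := by exact_mod_cast ha _
    have T := fun s => exists_ses G hreg s
    refine ⟨fun s p hp hpN => ?_, fun s hs => ?_, ?_, fun s hs => ?_, ?_⟩
    · obtain ⟨T, hT, ⟨e₁⟩, ⟨e₂⟩, ⟨e₃⟩⟩ := T s
      exact (eqv_of_iso k e₃.symm p).subsingleton k (Synt29.PnHodge.subsingleton_right k hT p
        ((eqv_of_iso k e₂ p).subsingleton k (h'.mid s p hp (by omega)))
        ((eqv_of_iso k e₁ (p + 1)).subsingleton k (h'.mid _ (p + 1) (by omega) (by omega))))
    · obtain ⟨T, hT, ⟨e₁⟩, ⟨e₂⟩, ⟨e₃⟩⟩ := T s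
      exact (eqv_of_iso k e₃.symm 0).subsingleton k (Synt29.PnHodge.subsingleton_right k hT 0
        ((eqv_of_iso k e₂ 0).subsingleton k (h'.neg s hs))
        ((eqv_of_iso k e₁ 1).subsingleton k (h'.mid _ 1 one_pos (by omega))))
    · obtain ⟨T, hT, ⟨e₁⟩, ⟨e₂⟩, ⟨e₃⟩⟩ := T 0
      exact (eqv_of_iso k e₃.symm 0).one k ((eqv_g k hT 0
        ((eqv_of_iso k e₁ 0).subsingleton k (h'.neg _ (by omega)))
        ((eqv_of_iso k e₁ 1).subsingleton k (h'.mid _ 1 one_pos (by omega)))).symm.one k
          ((eqv_of_iso k e₂ 0).one k h'.zero))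
    · obtain ⟨q, hq⟩ : ∃ q, N - r = q + 1 := ⟨N - r - 1, by omega⟩
      obtain ⟨T, hT, ⟨e₁⟩, ⟨e₂⟩, ⟨e₃⟩⟩ := T s
      rw [show N - (r + 1) = q by omega]
      exact (eqv_of_iso k e₃.symm q).subsingleton k (Synt29.PnHodge.subsingleton_right k hT q
        ((eqv_of_iso k e₂ q).subsingleton k (h'.mid s q (by omega) (by omega)))
        ((eqv_of_iso k e₁ (q + 1)).subsingleton k (hq ▸ h'.top _ (by omega))))
    · obtain ⟨q, hq⟩ : ∃ q, N - r = q + 1 := ⟨N - r - 1, by omega⟩
      obtain ⟨T, hT, ⟨e₁⟩, ⟨e₂⟩, ⟨e₃⟩⟩ := T ((∑ j, (a j : ℤ)) - (N + 1))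
      rw [show N - (r + 1) = q by omega]
      have h1 : One k (qT (front G) ((∑ j, (a j : ℤ)) - (N + 1) - a (Fin.last r))) (q + 1) := by
        rw [← hq, show (∑ j, (a j : ℤ)) - (N + 1) - a (Fin.last r) = (∑ j : Fin r, (a j.castSucc : ℤ)) - (N + 1)
          by omega]
        exact h'.top_one
      exact (eqv_of_iso k e₃.symm q).one k ((eqv_delta k hT q
        ((eqv_of_iso k e₂ q).subsingleton k (h'.mid _ q (by omega) (by omega)))
        ((eqv_of_iso k e₂ (q + 1)).subsingleton k (hq ▸ h'.top _ (by omega)))).one k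
          ((eqv_of_iso k e₁ (q + 1)).one k h1))

end Groth.Agent.H28.CIHodge
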